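import Mathlib
import Cfsg.Agent.Lib.Helper98.BG.SigmaDefs
import Cfsg.Agent.Lib.Helper66.BG.S1350Core
import Cfsg.Agent.Lib.Helper78.BG.S1405Core
import Cfsg.Agent.Lib.Helper75.BGUtil
import Cfsg.Agent.Lib.Helper69.PCount

/-!
# Package C3 of the sigma-partition project (helper98's `SIGMA13`)

A subgroup of prime order `p` of `N_G(Q)` not centralizing `Q` has `p ∈ τ₁(M)`.
-/

set_option autoImplicit false

namespace Cfsg.Agent.Lib.Helper62.BG

open Cfsg Cfsg.Agent.Lib.Helper98.BG13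

universe u

/-- If `M` has `p`-rank at most one (`p` odd) and `p ∣ |M'|`, then every subgroup of order `p`
of `M` lies in `M'`. -/
theorem c3_le_commutator_of_rank_one {G : Type u} [Group G] [Finite G] (M P : Subgroup G)
    (p : ℕ) (hp : p.Prime) (hp2 : p ≠ 2) (hPM : P ≤ M) (hP : Nat.card P = p)
    (hr : PRankLE p 1 M) (hdvd : p ∣ Nat.card ↥⁅M, M⁆) : P ≤ ⁅M, M⁆ := by
  classical
  have : Fact p.Prime := ⟨hp⟩
  have hcard : Nat.card ↥(commutator ↥M) = Nat.card ↥⁅M, M⁆ := by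
    rw [← Subgroup.map_subtype_commutator M]
    exact Nat.card_congr
      (Subgroup.equivMapOfInjective _ _ (Subgroup.subtype_injective M)).toEquiv
  rw [← hcard] at hdvd
  obtain ⟨x, hx⟩ := exists_prime_orderOf_dvd_card' (G := ↥(commutator ↥M)) p hdvd
  obtain ⟨P1, hP1def⟩ : ∃ P1 : Subgroup ↥M, P1 = Subgroup.zpowers (x : ↥M) := ⟨_, rfl⟩
  have hP1card : Nat.card P1 = p := by
    rw [hP1def, Nat.card_zpowers, Subgroup.orderOf_coe, hx]
  have hP1le : P1 ≤ commutator ↥M := by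
    rw [hP1def]; exact Subgroup.zpowers_le.2 x.2
  have hP'card : Nat.card ↥(P.subgroupOf M) = p := by
    rw [← hP]; exact Nat.card_congr (Subgroup.subgroupOfEquivOfLe hPM).toEquiv
  have hP'p : IsPGroup p ↥(P.subgroupOf M) :=
    IsPGroup.of_card (n := 1) (by rw [hP'card, pow_one])
  have hP1p : IsPGroup p ↥P1 := IsPGroup.of_card (n := 1) (by rw [hP1card, pow_one])
  obtain ⟨S, hS⟩ := hP'p.exists_le_sylow
  obtain ⟨S1, hS1⟩ := hP1p.exists_le_sylow
  obtain ⟨g, hg⟩ := MulAction.exists_smul_eq ↥M S1 S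
  obtain ⟨P2, hP2def⟩ : ∃ P2 : Subgroup ↥M, P2 = P1.map (MulAut.conj g).toMonoidHom :=
    ⟨_, rfl⟩
  have hP2S : P2 ≤ S := by
    rw [hP2def, ← hg, Sylow.smul_def, Sylow.pointwise_smul_def, Subgroup.pointwise_smul_def]
    exact Subgroup.map_mono hS1
  have hP2card : Nat.card P2 = p := by
    rw [hP2def, Subgroup.card_map_of_injective (MulAut.conj g).injective]; exact hP1card
  have hP2le : P2 ≤ commutator ↥M := by
    rw [hP2def]
    rintro _ ⟨y, hy, rfl⟩
    exact (inferInstance : (commutator ↥M).Normal).conj_mem y (hP1le hy) g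
  have hScyc : IsCyclic ↥(S : Subgroup ↥M) :=
    Cfsg.Agent.Lib.Helper75.BG.isCyclic_of_pRankLE_one p hp2 S.2
      (Cfsg.Agent.Lib.Helper78.BG.pRankLE_of_subgroup hr (S : Subgroup ↥M))
  have heq : (P.subgroupOf M).subgroupOf (S : Subgroup ↥M) =
      P2.subgroupOf (S : Subgroup ↥M) := by
    apply Cfsg.Agent.Lib.Helper69.eq_of_card_eq_of_isCyclic
    rw [Nat.card_congr (Subgroup.subgroupOfEquivOfLe hS).toEquiv,
      Nat.card_congr (Subgroup.subgroupOfEquivOfLe hP2S).toEquiv, hP'card, hP2card]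
  have hle : P.subgroupOf M ≤ P2 := by
    intro y hy
    have h1 : (⟨y, hS hy⟩ : ↥(S : Subgroup ↥M)) ∈
        (P.subgroupOf M).subgroupOf (S : Subgroup ↥M) := Subgroup.mem_subgroupOf.mpr hy
    rw [heq] at h1
    exact Subgroup.mem_subgroupOf.mp h1
  intro y hy
  have h1 : (⟨y, hPM hy⟩ : ↥M) ∈ commutator ↥M :=
    hP2le (hle (Subgroup.mem_subgroupOf.mpr hy))
  rw [← Subgroup.map_subtype_commutator M]
  exact ⟨⟨y, hPM hy⟩, h1, rfl⟩

/-- Package C3.  A subgroup of prime order `p` of `N_G(Q)` not centralizing `Q` has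
`p ∈ τ₁(M)`. -/
theorem lemC3 (hA : LemA.{u}) (hB : LemB.{u}) : LemC3.{u} := by
  intro G _ _ hG hy M H Q q hb p P hp hP hPN hPQ
  classical
  have : Fact p.Prime := ⟨hp⟩
  obtain ⟨-, -, -, -, -, htau2, -⟩ := hA hG hy M H Q q hb
  obtain ⟨-, hB2⟩ := hB hG hy M H Q q hb
  have hPM : P ≤ M := hPN.trans hb.hNM
  have hpM : p ∣ Nat.card M := by
    rw [← hP]; exact Subgroup.card_dvd_of_le hPM
  have hp2 : p ≠ 2 := by
    rintro rfl
    have h4 : 2 ∣ Nat.card G := hpM.trans (Subgroup.card_subgroup_dvd_card M)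
    exact (Nat.not_even_iff_odd.mpr hG.1) (even_iff_two_dvd.mpr h4)
  by_contra hnot
  apply hPQ
  refine le_trans (le_inf hPN ?_) hB2
  by_cases hσ : p ∈ sigma M
  · have hP'card : Nat.card ↥(P.subgroupOf M) = p := by
      rw [← hP]; exact Nat.card_congr (Subgroup.subgroupOfEquivOfLe hPM).toEquiv
    have hP'p : IsPGroup p ↥(P.subgroupOf M) :=
      IsPGroup.of_card (n := 1) (by rw [hP'card, pow_one])
    obtain ⟨S, hS⟩ := hP'p.exists_le_sylow
    have h1 := Cfsg.Agent.Lib.Helper66.BG.sylow_le_commutator_of_sigma hG hy.h1404 M hb.hM p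
      hσ S
    intro y hy
    rw [← Subgroup.map_subtype_commutator M]
    exact ⟨⟨y, hPM hy⟩, h1 (hS (Subgroup.mem_subgroupOf.mpr hy)), rfl⟩
  · have hr1 : PRankLE p 1 M := by
      by_contra hr1
      have hr2 : ¬ PRankLE p 2 M := fun hr2 => htau2 p ⟨hp, hσ, hr2, hr1⟩
      exact hσ (Cfsg.Agent.Lib.Helper78.BG.alpha_subset_sigma hG hy.h1403 M hb.hM ⟨hp, hr2⟩)
    have hdvd : p ∣ Nat.card ↥⁅M, M⁆ := by
      by_contra hdvd
      exact hnot ⟨hp, hσ, hpM, hdvd, hr1⟩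
    exact c3_le_commutator_of_rank_one M P p hp hp2 hPM hP hr1 hdvd

end Cfsg.Agent.Lib.Helper62.BG
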